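import Cfsg.Agent.Lib.Helper79.S4719.Defs

/-!
# S4719 project (helper79): module [SCHUR] `card_le_schurB` (hedge by helper14)

A perfect finite group `L` has `|L| ≤ n^(n^3+1)`, `n = |L / Z(L)|` (Schur, via Mathlib's
`Subgroup.card_commutator_dvd_index_center_pow`).
-/

set_option autoImplicit false

namespace Cfsg.Agent.Lib.Helper14.S4719

open Cfsg Cfsg.Agent.Lib.Helper79.S4719
open scoped commutatorElement

universe u

/-- a commutator does not change when its entries are multiplied by central elements -/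
theorem commutatorElement_mul_central {L : Type u} [Group L] (a b z w : L)
    (hz : z ∈ Subgroup.center L) (hw : w ∈ Subgroup.center L) :
    ⁅a * z, b * w⁆ = ⁅a, b⁆ := by
  have hz' : ∀ g : L, g * z = z * g := Subgroup.mem_center_iff.mp hz
  have hw' : ∀ g : L, g * w = w * g := Subgroup.mem_center_iff.mp hw
  have e1 : z * (b * w) * z⁻¹ = b * w := by rw [← hz' (b * w), mul_inv_cancel_right]
  have e2 : w * a⁻¹ * w⁻¹ = a⁻¹ := by rw [← hw' a⁻¹, mul_inv_cancel_right]
  rw [commutatorElement_def, commutatorElement_def]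
  calc a * z * (b * w) * (a * z)⁻¹ * (b * w)⁻¹
      = a * (z * (b * w) * z⁻¹) * a⁻¹ * w⁻¹ * b⁻¹ := by group
    _ = a * (b * w) * a⁻¹ * w⁻¹ * b⁻¹ := by rw [e1]
    _ = a * b * (w * a⁻¹ * w⁻¹) * b⁻¹ := by group
    _ = a * b * a⁻¹ * b⁻¹ := by rw [e2]

/-- the number of commutators is at most `|L / Z(L)|^2` -/
theorem card_commutatorSet_le {L : Type u} [Group L] [Finite L] :
    Nat.card (commutatorSet L) ≤ Nat.card (L ⧸ Subgroup.center L) ^ 2 := by
  classical
  let f : (L ⧸ Subgroup.center L) × (L ⧸ Subgroup.center L) → L :=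
    fun ab => ⁅ab.1.out, ab.2.out⁆
  have hsub : commutatorSet L ⊆ Set.range f := by
    rintro g ⟨g₁, g₂, rfl⟩
    refine ⟨((g₁ : L ⧸ Subgroup.center L), (g₂ : L ⧸ Subgroup.center L)), ?_⟩
    obtain ⟨z₁, hz₁⟩ := QuotientGroup.mk_out_eq_mul (Subgroup.center L) g₁
    obtain ⟨z₂, hz₂⟩ := QuotientGroup.mk_out_eq_mul (Subgroup.center L) g₂
    show ⁅(g₁ : L ⧸ Subgroup.center L).out, (g₂ : L ⧸ Subgroup.center L).out⁆ = ⁅g₁, g₂⁆
    rw [hz₁, hz₂]
    exact commutatorElement_mul_central g₁ g₂ z₁ z₂ z₁.2 z₂.2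
  calc Nat.card (commutatorSet L) ≤ Nat.card (Set.range f) := Nat.card_mono (Set.toFinite _) hsub
    _ ≤ Nat.card ((L ⧸ Subgroup.center L) × (L ⧸ Subgroup.center L)) := Finite.card_range_le f
    _ = Nat.card (L ⧸ Subgroup.center L) ^ 2 := by rw [Nat.card_prod, sq]

/-- [SCHUR] -/
theorem card_le_schurB {L : Type u} [Group L] [Finite L] (hperf : commutator L = ⊤) :
    Nat.card L ≤ schurB (Nat.card (L ⧸ Subgroup.center L)) := by
  have hidx : (Subgroup.center L).index = Nat.card (L ⧸ Subgroup.center L) :=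
    Subgroup.index_eq_card _
  have hpos : 0 < Nat.card (L ⧸ Subgroup.center L) := Nat.card_pos
  have h := Subgroup.card_commutator_dvd_index_center_pow L
  rw [hperf, Subgroup.card_top, hidx] at h
  have h1 := Nat.le_of_dvd (Nat.pow_pos hpos) h
  have h2 : Nat.card (L ⧸ Subgroup.center L) * Nat.card (commutatorSet L) + 1 ≤
      Nat.card (L ⧸ Subgroup.center L) ^ 3 + 1 := by
    have h3 := card_commutatorSet_le (L := L)
    have h4 : Nat.card (L ⧸ Subgroup.center L) * Nat.card (commutatorSet L) ≤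
        Nat.card (L ⧸ Subgroup.center L) * Nat.card (L ⧸ Subgroup.center L) ^ 2 :=
      Nat.mul_le_mul_left _ h3
    have h5 : Nat.card (L ⧸ Subgroup.center L) * Nat.card (L ⧸ Subgroup.center L) ^ 2 =
        Nat.card (L ⧸ Subgroup.center L) ^ 3 := by ring
    omega
  unfold schurB
  exact le_trans h1 (Nat.pow_le_pow_right hpos h2)

end Cfsg.Agent.Lib.Helper14.S4719
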